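import Mathlib

/-!
# A domain cut out by a family of discrete valuations with finite character
-/

set_option autoImplicit false
set_option linter.unusedSectionVars false
universe u v

open WithZero

namespace Groth.Agent.MoriLib

/-- A subring of a field cut out by discrete valuations, nearly all trivial on each element. -/
structure Family (B K : Type u) [CommRing B] [Field K] [Algebra B K] (ι : Type v) where
  /-- the valuations -/
  v : ι → Valuation K ℤᵐ⁰
  le_one : ∀ i (a : B), v i (algebraMap B K a) ≤ 1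
  mem_of_le : ∀ x : K, (∀ i, v i x ≤ 1) → ∃ a : B, algebraMap B K a = x
  finite : ∀ x : K, x ≠ 0 → {i | v i x ≠ 1}.Finite
  nontriv : ∀ i, ∃ a : B, algebraMap B K a ≠ 0 ∧ v i (algebraMap B K a) < 1

namespace Family

variable {B K : Type u} [CommRing B] [Field K] [Algebra B K] [FaithfulSMul B K] {ι : Type v}
  (F : Family B K ι)

/-- The centre of a valuation. -/
def centre (i : ι) : Ideal B where
  carrier := {a | F.v i (algebraMap B K a) < 1}
  add_mem' {a b} ha hb := by
    show F.v i (algebraMap B K (a + b)) < 1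
    rw [map_add]
    exact (F.v i).map_add_lt ha hb
  zero_mem' := by show F.v i (algebraMap B K 0) < 1; rw [map_zero, map_zero]; exact zero_lt_one
  smul_mem' c a ha := by
    show F.v i (algebraMap B K (c * a)) < 1
    rw [map_mul, map_mul]
    exact lt_of_le_of_lt (mul_le_of_le_one_left' (F.le_one i c)) ha

theorem mem_centre {i : ι} {a : B} : a ∈ F.centre i ↔ F.v i (algebraMap B K a) < 1 := Iff.rfl

theorem v_eq_one {i : ι} {a : B} (h : a ∉ F.centre i) : F.v i (algebraMap B K a) = 1 :=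
  le_antisymm (F.le_one i a) (not_lt.1 h)

instance centre_isPrime (i : ι) : (F.centre i).IsPrime where
  ne_top' h := by
    have h1 : (1 : B) ∈ F.centre i := h ▸ Submodule.mem_top
    rw [mem_centre, map_one, map_one] at h1
    exact lt_irrefl _ h1
  mem_or_mem' {a b} h := by
    by_contra hc
    push Not at hc
    rw [mem_centre, map_mul, map_mul, F.v_eq_one hc.1, F.v_eq_one hc.2, one_mul] at h
    exact lt_irrefl _ h

theorem centre_ne_bot (i : ι) : F.centre i ≠ ⊥ := fun h => by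
  obtain ⟨a, ha0, ha⟩ := F.nontriv i
  have h1 : a ∈ F.centre i := ha
  rw [h, Ideal.mem_bot] at h1
  exact ha0 (by rw [h1, map_zero])

include F in
/-- Clearing denominators away from a prime. -/
theorem exists_clear {C : Type u} [CommRing C] (φ : C →+* B) (p : Ideal C) [hp : p.IsPrime] (x : K)
    (h : ∀ i, (F.centre i).comap φ ≤ p → F.v i x ≤ 1) :
    ∃ s ∉ p, ∃ a : B, algebraMap B K a = algebraMap B K (φ s) * x := by
  classical
  by_cases hx : x = 0
  · exact ⟨1, fun h1 => hp.ne_top ((Ideal.eq_top_iff_one p).2 h1), 0, by rw [hx, map_zero, mul_zero]⟩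
  let s₀ := (F.finite x hx).toFinset.filter fun i => 1 < F.v i x
  have hs : ∀ i ∈ s₀, ∃ t : C, φ t ∈ F.centre i ∧ t ∉ p := fun i hi => by
    by_contra hc
    push Not at hc
    exact not_le.2 (Finset.mem_filter.1 hi).2 (h i fun t ht => hc t ht)
  choose! t ht htp using hs
  let N : ι → ℕ := fun i => (log (F.v i x)).toNat
  have key : ∀ i ∈ s₀, F.v i (algebraMap B K (φ (t i ^ N i))) * F.v i x ≤ 1 := by
    intro i hi
    have hx0 : F.v i x ≠ 0 := (F.v i).ne_zero_iff.2 hx
    have hlt : F.v i (algebraMap B K (φ (t i))) < 1 := ht i hi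
    rw [map_pow, map_pow, map_pow]
    by_cases ht0 : F.v i (algebraMap B K (φ (t i))) = 0
    · rcases Nat.eq_zero_or_pos (N i) with hN | hN
      · have h0 : log (F.v i x) ≤ 0 := Int.toNat_eq_zero.1 hN
        rw [hN, pow_zero, one_mul, ← exp_log hx0, ← exp_zero]
        exact exp_le_exp.2 h0
      · rw [ht0, zero_pow hN.ne', zero_mul]
        exact zero_le_one
    · have h1 : log (F.v i (algebraMap B K (φ (t i)))) < 0 := by
        rw [← exp_lt_exp, exp_log ht0, exp_zero]
        exact hlt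
      rw [← exp_log (mul_ne_zero (pow_ne_zero _ ht0) hx0), ← exp_zero, exp_le_exp,
        log_mul (pow_ne_zero _ ht0) hx0, log_pow, nsmul_eq_mul]
      have h2 : log (F.v i x) ≤ (N i : ℤ) := Int.self_le_toNat _
      nlinarith [mul_nonneg (Int.natCast_nonneg (N i)) (by omega : (0 : ℤ) ≤ -log (F.v i (algebraMap B K (φ (t i)))) - 1)]
  refine ⟨∏ i ∈ s₀, t i ^ N i, ?_, F.mem_of_le _ fun j => ?_⟩
  · intro hmem
    obtain ⟨i, hi, hit⟩ := (Ideal.IsPrime.prod_mem_iff (p := p)).1 hmem
    exact htp i hi (hp.mem_of_pow_mem _ hit)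
  · rw [map_mul]
    by_cases hj : j ∈ s₀
    · rw [← Finset.mul_prod_erase s₀ _ hj, map_mul, map_mul, map_mul, mul_right_comm]
      exact mul_le_one' (key j hj) (F.le_one j _)
    · refine mul_le_one' (F.le_one j _) ?_
      by_contra hc
      exact hj (Finset.mem_filter.2 ⟨(F.finite x hx).mem_toFinset.2 (fun h1 => hc h1.le), not_le.1 hc⟩)

/-- Some centre is inside every nonzero prime. -/
theorem exists_centre_le (Q : Ideal B) [hQ : Q.IsPrime] (hQ0 : Q ≠ ⊥) : ∃ i, F.centre i ≤ Q := by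
  by_contra h
  push Not at h
  obtain ⟨c, hc, hc0⟩ := Submodule.exists_mem_ne_zero_of_ne_bot hQ0
  have hc' : algebraMap B K c ≠ 0 := fun h0 => hc0 (FaithfulSMul.algebraMap_injective B K (by rw [h0, map_zero]))
  obtain ⟨s, hs, a, ha⟩ := F.exists_clear (RingHom.id B) Q (algebraMap B K c)⁻¹ fun i hi => absurd hi (h i)
  apply hs
  have h1 : s = a * c := FaithfulSMul.algebraMap_injective B K (by
    rw [map_mul, ha, RingHom.id_apply, inv_mul_cancel_right₀ hc'])
  rw [h1]
  exact Q.mul_mem_left a hc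

/-- A product of powers with valuation at most one everywhere on a finite set and exactly one somewhere. -/
theorem exists_ratio {s : Finset ι} (hs : s.Nonempty) {c : B} (hc0 : algebraMap B K c ≠ 0) {x : K} (hx0 : x ≠ 0)
    (hc : ∀ i ∈ s, c ∈ F.centre i) (hx : ∀ i ∈ s, 1 < F.v i x) :
    ∃ n m : ℕ, 0 < n ∧ 0 < m ∧ (∀ i ∈ s, F.v i (algebraMap B K c ^ n * x ^ m) ≤ 1) ∧
      ∃ i ∈ s, F.v i (algebraMap B K c ^ n * x ^ m) = 1 := by
  classical
  let l : ι → ℤ := fun i => log (F.v i x)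
  let g : ι → ℤ := fun i => - log (F.v i (algebraMap B K c))
  have hvc : ∀ i, F.v i (algebraMap B K c) ≠ 0 := fun i => (F.v i).ne_zero_iff.2 hc0
  have hvx : ∀ i, F.v i x ≠ 0 := fun i => (F.v i).ne_zero_iff.2 hx0
  have hl : ∀ i ∈ s, 0 < l i := fun i hi => by
    rw [← exp_lt_exp, exp_zero, exp_log (hvx i)]
    exact hx i hi
  have hg : ∀ i ∈ s, 0 < g i := fun i hi => by
    have h1 : log (F.v i (algebraMap B K c)) < 0 := by
      rw [← exp_lt_exp, exp_zero, exp_log (hvc i)]
      exact hc i hi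
    show 0 < - _
    omega
  obtain ⟨j, hj, hmax⟩ := s.exists_max_image (fun i => (l i : ℚ) / g i) hs
  have hval : ∀ i, ∀ n m : ℕ, F.v i (algebraMap B K c ^ n * x ^ m) = exp (-(n : ℤ) * g i + (m : ℤ) * l i) :=
    fun i n m => by
      rw [map_mul, map_pow, map_pow, ← exp_log (hvc i), ← exp_log (hvx i), ← exp_nsmul, ← exp_nsmul, ← exp_add]
      congr 1
      simp only [l, g, nsmul_eq_mul, log_exp]
      ring
  refine ⟨(l j).toNat, (g j).toNat, by have := hl j hj; omega, by have := hg j hj; omega, fun i hi => ?_, j, hj, ?_⟩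
  · rw [hval, ← exp_zero, exp_le_exp, Int.toNat_of_nonneg (hl j hj).le, Int.toNat_of_nonneg (hg j hj).le]
    have h1 := hmax i hi
    rw [div_le_div_iff₀ (by exact_mod_cast hg i hi) (by exact_mod_cast hg j hj)] at h1
    have h2 : l i * g j ≤ l j * g i := by exact_mod_cast h1
    linarith
  · rw [hval, ← exp_zero, Int.toNat_of_nonneg (hl j hj).le, Int.toNat_of_nonneg (hg j hj).le]
    congr 1
    ring

/-- A nonzero prime without nonzero primes strictly inside. -/
def HtOne {R : Type u} [CommRing R] (Q : Ideal R) : Prop :=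
  Q.IsPrime ∧ Q ≠ ⊥ ∧ ∀ r : Ideal R, r.IsPrime → r ≠ ⊥ → r ≤ Q → r = Q

theorem finite_centre_le (Q : Ideal B) (h : HtOne Q) :
    {i | F.centre i ≤ Q}.Finite := by
  haveI := h.1
  obtain ⟨c, hc, hc0⟩ := Submodule.exists_mem_ne_zero_of_ne_bot h.2.1
  refine (F.finite (algebraMap B K c) fun h0 => hc0 (FaithfulSMul.algebraMap_injective B K (by rw [h0, map_zero]))).subset
    fun i hi => ?_
  have h1 : F.centre i = Q := h.2.2 _ inferInstance (F.centre_ne_bot i) hi
  rw [← h1] at hc
  exact ne_of_lt hc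

/-- The valuations centred at a prime of height one agree. -/
theorem le_one_of_centre_eq {Q : Ideal B} (hQ : HtOne Q) {i : ι} (hi : F.centre i = Q) {x : K}
    (hx : F.v i x ≤ 1) (j : ι) (hj : F.centre j ≤ Q) : F.v j x ≤ 1 := by
  classical
  haveI := hQ.1
  by_contra hjx
  rw [not_le] at hjx
  have hx0 : x ≠ 0 := fun h => by rw [h, map_zero] at hjx; exact not_lt.2 zero_le_one hjx
  obtain ⟨c, hc, hc0⟩ := Submodule.exists_mem_ne_zero_of_ne_bot hQ.2.1
  have hc0' : algebraMap B K c ≠ 0 := fun h0 => hc0 (FaithfulSMul.algebraMap_injective B K (by rw [h0, map_zero]))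
  have hcent : ∀ k, F.centre k ≤ Q → F.centre k = Q := fun k hk => hQ.2.2 _ inferInstance (F.centre_ne_bot k) hk
  let s := (F.finite_centre_le Q hQ).toFinset.filter fun k => 1 < F.v k x
  have hs : ∀ k ∈ s, F.centre k ≤ Q ∧ 1 < F.v k x := fun k hk =>
    ⟨(F.finite_centre_le Q hQ).mem_toFinset.1 (Finset.mem_filter.1 hk).1, (Finset.mem_filter.1 hk).2⟩
  have hjs : j ∈ s := Finset.mem_filter.2 ⟨(F.finite_centre_le Q hQ).mem_toFinset.2 hj, hjx⟩
  obtain ⟨n, m, hn, hm, hle, k, hk, hk1⟩ := F.exists_ratio ⟨j, hjs⟩ hc0' hx0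
    (fun k hk => by rw [hcent k (hs k hk).1]; exact hc) (fun k hk => (hs k hk).2)
  let u : K := algebraMap B K c ^ n * x ^ m
  obtain ⟨t, ht, a, ha⟩ := F.exists_clear (RingHom.id B) Q u fun l hl => by
    by_cases hls : l ∈ s
    · exact hle l hls
    · have h1 : F.v l x ≤ 1 := not_lt.1 fun h => hls (Finset.mem_filter.2
        ⟨(F.finite_centre_le Q hQ).mem_toFinset.2 hl, h⟩)
      show F.v l (algebraMap B K c ^ n * x ^ m) ≤ 1
      rw [map_mul, map_pow, map_pow]
      exact mul_le_one' (pow_le_one' (F.le_one l c) n) (pow_le_one' h1 m)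
  rw [RingHom.id_apply] at ha
  have htk : ∀ l, F.centre l ≤ Q → F.v l (algebraMap B K a) = F.v l u := fun l hl => by
    rw [ha, map_mul, F.v_eq_one (fun h => ht (hl h)), one_mul]
  have haQ : a ∉ Q := fun h => by
    rw [← hcent k (hs k hk).1, mem_centre, htk k (hs k hk).1] at h
    exact ne_of_lt h hk1
  rw [← hi] at haQ
  apply haQ
  rw [mem_centre, htk i hi.le]
  show F.v i (algebraMap B K c ^ n * x ^ m) < 1
  rw [map_mul, map_pow, map_pow]
  exact mul_lt_one_of_lt_of_le (pow_lt_one₀ zero_le' (by rw [← hi] at hc; exact hc) hn.ne') (pow_le_one' hx m)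

/-- Outside the ring some valuation centred in height one is large. -/
theorem exists_htOne_gt {x : K} (hx : ¬ ∃ a : B, algebraMap B K a = x) :
    ∃ i, 1 < F.v i x ∧ HtOne (F.centre i) := by
  classical
  have hx0 : x ≠ 0 := fun h => hx ⟨0, by rw [h, map_zero]⟩
  let bad := (F.finite x hx0).toFinset.filter fun i => 1 < F.v i x
  have hbad : ∀ i, i ∈ bad ↔ 1 < F.v i x := fun i => by
    refine ⟨fun h => (Finset.mem_filter.1 h).2, fun h => Finset.mem_filter.2 ⟨?_, h⟩⟩
    exact (F.finite x hx0).mem_toFinset.2 fun h1 => by rw [h1] at h; exact lt_irrefl _ h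
  have hne : bad.Nonempty := by
    by_contra h
    exact hx (F.mem_of_le x fun i => not_lt.1 fun hi => h ⟨i, (hbad i).2 hi⟩)
  obtain ⟨i, hi⟩ := (bad.image F.centre).exists_minimal (hne.image _)
  obtain ⟨i₀, hi₀, hi₀c⟩ := Finset.mem_image.1 hi.1
  have hmin : ∀ l, 1 < F.v l x → F.centre l ≤ F.centre i₀ → F.centre l = F.centre i₀ := fun l hl hle => by
    refine le_antisymm hle ?_
    rw [hi₀c] at hle ⊢
    exact hi.2 (Finset.mem_image_of_mem _ ((hbad l).2 hl)) hle
  refine ⟨i₀, (hbad i₀).1 hi₀, inferInstance, F.centre_ne_bot i₀, fun r hr hr0 hrle => ?_⟩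
  by_contra hne'
  obtain ⟨i', hi'⟩ := F.exists_centre_le r hr0
  obtain ⟨c, hc, hc0⟩ := Submodule.exists_mem_ne_zero_of_ne_bot (F.centre_ne_bot i')
  have hlt : F.centre i' < F.centre i₀ := lt_of_le_of_lt hi' (lt_of_le_of_ne hrle hne')
  have hgood : F.v i' x ≤ 1 := not_lt.1 fun h => hlt.ne (hmin i' h hlt.le)
  have hc0' : algebraMap B K c ≠ 0 := fun h0 => hc0 (FaithfulSMul.algebraMap_injective B K (by rw [h0, map_zero]))
  let s := bad.filter fun l => F.centre l ≤ F.centre i₀
  have hs : ∀ l ∈ s, 1 < F.v l x ∧ F.centre l = F.centre i₀ := fun l hl =>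
    ⟨(hbad l).1 (Finset.mem_filter.1 hl).1, hmin l ((hbad l).1 (Finset.mem_filter.1 hl).1) (Finset.mem_filter.1 hl).2⟩
  obtain ⟨n, m, hn, hm, hle, k, hk, hk1⟩ := F.exists_ratio (s := s) ⟨i₀, Finset.mem_filter.2 ⟨hi₀, le_rfl⟩⟩
    hc0' hx0 (fun l hl => by rw [(hs l hl).2]; exact hlt.le hc) (fun l hl => (hs l hl).1)
  let u : K := algebraMap B K c ^ n * x ^ m
  obtain ⟨t, ht, a, ha⟩ := F.exists_clear (RingHom.id B) (F.centre i₀) u fun l hl => by
    by_cases hls : l ∈ s
    · exact hle l hls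
    · have h1 : F.v l x ≤ 1 := not_lt.1 fun h => hls (Finset.mem_filter.2 ⟨(hbad l).2 h, hl⟩)
      show F.v l (algebraMap B K c ^ n * x ^ m) ≤ 1
      rw [map_mul, map_pow, map_pow]
      exact mul_le_one' (pow_le_one' (F.le_one l c) n) (pow_le_one' h1 m)
  rw [RingHom.id_apply] at ha
  have htk : ∀ l, F.centre l ≤ F.centre i₀ → F.v l (algebraMap B K a) = F.v l u := fun l hl => by
    rw [ha, map_mul, F.v_eq_one (fun h => ht (hl h)), one_mul]
  have hmem : a ∈ F.centre i' := by
    rw [mem_centre, htk i' hlt.le]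
    show F.v i' (algebraMap B K c ^ n * x ^ m) < 1
    rw [map_mul, map_pow, map_pow]
    exact mul_lt_one_of_lt_of_le (pow_lt_one₀ zero_le' hc hn.ne') (pow_le_one' hgood m)
  have h2 := hlt.le hmem
  rw [← (hs k hk).2, mem_centre, htk k (hs k hk).2.le] at h2
  exact ne_of_lt h2 hk1

end Family

end Groth.Agent.MoriLib
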