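import Mathlib
import Groth.Agent.NagataLib.Reduced
import Groth.Agent.MoriLib.Family

/-!
# The integral closure of a Noetherian domain inside the normalization of a faithfully flat cover
-/

set_option autoImplicit false
set_option linter.unusedSectionVars false
set_option maxHeartbeats 1000000
universe u

open scoped TensorProduct
open WithZero

noncomputable section

namespace Groth.Agent.MoriLib

/-- A prime whose local ring is a discrete valuation ring. -/
def IsDVRPrime {B : Type u} [CommRing B] [IsDomain B] (P : Ideal B) : Prop :=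
  ∃ _ : P.IsPrime, IsDiscreteValuationRing (Localization.AtPrime P)

theorem IsDVRPrime.eq_of_le {B : Type u} [CommRing B] [IsDomain B] {P : Ideal B} (hP : IsDVRPrime P)
    {r : Ideal B} [hr : r.IsPrime] (hr0 : r ≠ ⊥) (hle : r ≤ P) : r = P := by
  obtain ⟨hp, hd⟩ := hP
  haveI := hp
  haveI := hd
  let O := Localization.AtPrime P
  have hdis : Disjoint (P.primeCompl : Set B) (r : Set B) := Set.disjoint_left.2 fun x hx hxr => hx (hle hxr)
  haveI h1 : (r.map (algebraMap B O)).IsPrime := IsLocalization.isPrime_of_isPrime_disjoint P.primeCompl O r hr hdis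
  have h2 : (r.map (algebraMap B O)).comap (algebraMap B O) = r :=
    IsLocalization.comap_map_of_isPrime_disjoint P.primeCompl O hr hdis
  have h3 : r.map (algebraMap B O) ≠ ⊥ := fun h => by
    rw [h, Ideal.comap_bot_of_injective _ (IsLocalization.injective O P.primeCompl_le_nonZeroDivisors)] at h2
    exact hr0 h2.symm
  have h4 : r.map (algebraMap B O) = IsLocalRing.maximalIdeal O :=
    IsLocalRing.eq_maximalIdeal (Ring.DimensionLEOne.maximalOfPrime h3 h1)
  rw [← h2, h4]
  exact Localization.AtPrime.comap_maximalIdeal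

theorem exists_valuation {B : Type u} [CommRing B] [IsDomain B] {L : Type u} [Field L] [Algebra B L]
    [IsFractionRing B L] {P : Ideal B} (hP : IsDVRPrime P) :
    ∃ w : Valuation L ℤᵐ⁰, (∀ b, w (algebraMap B L b) ≤ 1) ∧ (∀ b, w (algebraMap B L b) < 1 ↔ b ∈ P) ∧
      ∀ x, w x ≤ 1 → ∃ b, ∃ s ∉ P, x * algebraMap B L s = algebraMap B L b := by
  obtain ⟨hp, hd⟩ := hP
  haveI := hp
  haveI := hd
  let O := Localization.AtPrime P
  letI : Algebra O L := (IsLocalization.lift (M := P.primeCompl) (S := O) (g := algebraMap B L) fun s =>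
    isUnit_iff_ne_zero.2 fun h => s.2 (by
      rw [IsFractionRing.injective B L (h.trans (map_zero _).symm)]; exact P.zero_mem)).toAlgebra
  haveI : IsScalarTower B O L := IsScalarTower.of_algebraMap_eq fun b => (IsLocalization.lift_eq _ b).symm
  haveI : IsFractionRing O L := IsFractionRing.isFractionRing_of_isDomain_of_isLocalization P.primeCompl O L
  let v := IsDiscreteValuationRing.maximalIdeal O
  refine ⟨v.valuation L, fun b => ?_, fun b => ?_, fun x hx => ?_⟩
  · rw [IsScalarTower.algebraMap_apply B O L]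
    exact v.valuation_le_one _
  · rw [IsScalarTower.algebraMap_apply B O L, v.valuation_lt_one_iff_mem]
    exact IsLocalization.AtPrime.to_map_mem_maximal_iff O P b
  · obtain ⟨y, rfl⟩ := IsDiscreteValuationRing.exists_lift_of_le_one hx
    obtain ⟨b, s, rfl⟩ := IsLocalization.exists_mk'_eq P.primeCompl y
    refine ⟨b, s, s.2, ?_⟩
    rw [IsScalarTower.algebraMap_apply B O L, IsScalarTower.algebraMap_apply B O L b, ← map_mul,
      IsLocalization.mk'_spec]

theorem exists_dvrPrime {B : Type u} [CommRing B] [IsDomain B] [IsNoetherianRing B] [IsIntegrallyClosed B]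
    {y c : B} (hc : c ≠ 0) (hy : ¬ c ∣ y) :
    ∃ P : Ideal B, IsDVRPrime P ∧ c ∈ P ∧ ∀ s b : B, s * y = c * b → s ∈ P := by
  have hy0 : Ideal.Quotient.mk (Ideal.span {c}) y ≠ 0 := by
    rw [ne_eq, Ideal.Quotient.eq_zero_iff_mem, Ideal.mem_span_singleton]
    exact hy
  obtain ⟨P, hP, hle⟩ := exists_le_isAssociatedPrime_of_isNoetherianRing B (Ideal.Quotient.mk (Ideal.span {c}) y) hy0
  have hmem : ∀ s b : B, s * y = c * b → s ∈ P := fun s b h => hle (by
    rw [Submodule.mem_colon_singleton, Submodule.mem_bot, Algebra.smul_def, Ideal.Quotient.algebraMap_eq, ← map_mul,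
      Ideal.Quotient.eq_zero_iff_mem, Ideal.mem_span_singleton]
    exact ⟨b, h⟩)
  haveI : P.IsPrime := hP.isPrime
  exact ⟨P, ⟨inferInstance, NagataLib.isDVR_of_associated hc P hP⟩, hmem c y rfl, hmem⟩

variable (A : Type u) [CommRing A] [IsDomain A] (R : Type u) [CommRing R] [IsNoetherianRing R] [Algebra A R]
  [Module.FaithfullyFlat A R]

/-- The minimal primes of the cover. -/
abbrev MP : Type u := {p : Ideal R // p ∈ minimalPrimes R}

instance (p : MP R) : p.1.IsPrime := p.2.1.1

instance : Finite (MP R) := (minimalPrimes.finite_of_isNoetherianRing R).to_subtype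

/-- The field of a branch. -/
abbrev BF (p : MP R) : Type u := FractionRing (R ⧸ p.1)

/-- A normalized branch. -/
abbrev Br (p : MP R) : Type u := integralClosure (R ⧸ p.1) (BF R p)

variable {A R}

theorem algebraMap_notMem {a : A} (ha : a ≠ 0) (p : MP R) : algebraMap A R a ∉ p.1 := fun h => by
  have hreg : algebraMap A R a ∈ nonZeroDivisors R := mem_nonZeroDivisors_iff_right.2 fun z hz => by
    have hinj := Module.Flat.rTensor_preserves_injective_linearMap (M := R)
      (LinearMap.toSpanSingleton A A a) (fun x y h => mul_right_cancel₀ ha (by simpa using h))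
    have h1 : LinearMap.rTensor R (LinearMap.toSpanSingleton A A a) ((1 : A) ⊗ₜ[A] z) =
        LinearMap.rTensor R (LinearMap.toSpanSingleton A A a) 0 := by
      rw [map_zero, LinearMap.rTensor_tmul, LinearMap.toSpanSingleton_apply, one_smul]
      have : a ⊗ₜ[A] z = (1 : A) ⊗ₜ[A] (a • z) := by
        rw [show a = a • (1 : A) by simp, TensorProduct.smul_tmul]
        simp
      rw [this, Algebra.smul_def, mul_comm, hz, TensorProduct.tmul_zero]
    have h2 := congrArg (TensorProduct.lid A R) (hinj h1)
    simpa using h2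
  exact Set.disjoint_left.1 (Ideal.disjoint_nonZeroDivisors_of_mem_minimalPrimes p.2) h hreg

/-- The map into a branch. -/
def branch (p : MP R) : FractionRing A →+* BF R p :=
  IsFractionRing.lift (A := A) (g := (algebraMap (R ⧸ p.1) (BF R p)).comp ((Ideal.Quotient.mk p.1).comp (algebraMap A R)))
    ((injective_iff_map_eq_zero _).2 fun a ha => by
      by_contra h0
      have h1 : Ideal.Quotient.mk p.1 (algebraMap A R a) = 0 :=
        IsFractionRing.injective (R ⧸ p.1) (BF R p) (by rw [map_zero]; exact ha)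
      exact algebraMap_notMem h0 p (Ideal.Quotient.eq_zero_iff_mem.1 h1))

theorem branch_algebraMap (p : MP R) (a : A) :
    branch p (algebraMap A (FractionRing A) a) =
      algebraMap (R ⧸ p.1) (BF R p) (Ideal.Quotient.mk p.1 (algebraMap A R a)) :=
  IsFractionRing.lift_algebraMap _ a

theorem isNilpotent_of_forall_mem {r : R} (h : ∀ p : MP R, r ∈ p.1) : IsNilpotent r := by
  rw [← mem_nilradical, nilradical, ← Ideal.sInf_minimalPrimes, Submodule.mem_sInf]
  exact fun p hp => h ⟨p, hp⟩

/-- Integrality descends along the normalized branches. -/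
theorem isIntegral_of_forall (x : FractionRing A)
    (h : ∀ p : MP R, IsIntegral (R ⧸ p.1) (branch p x)) : IsIntegral A x := by
  classical
  haveI : Fintype (MP R) := Fintype.ofFinite _
  rcases subsingleton_or_nontrivial R with hR | hR
  · have h1 : (algebraMap A R) 1 = algebraMap A R 0 := Subsingleton.elim _ _
    exact absurd (FaithfulSMul.algebraMap_injective A R h1) one_ne_zero
  choose f hf hfx using h
  have hlift : ∀ p : MP R, ∃ q : Polynomial R, q.map (Ideal.Quotient.mk p.1) = f p ∧ q.Monic := fun p => by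
    obtain ⟨q, h1, -, h3⟩ := Polynomial.lifts_and_natDegree_eq_and_monic
      ((Polynomial.lifts_iff_coeff_lifts _).2 fun n => Ideal.Quotient.mk_surjective _) (hf p)
    exact ⟨q, h1, h3⟩
  choose q hq hqm using hlift
  let f₀ := ∏ p, q p
  have hf₀ : f₀.Monic := Polynomial.monic_prod_of_monic _ _ fun p _ => hqm p
  obtain ⟨a, b, hb, hx⟩ := IsFractionRing.div_surjective A x
  have hb0 : b ≠ 0 := nonZeroDivisors.ne_zero hb
  have hbx : algebraMap A (FractionRing A) b * x = algebraMap A (FractionRing A) a := by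
    rw [← hx, mul_div_cancel₀ _ fun h0 => hb0 (IsFractionRing.injective A (FractionRing A) (h0.trans (map_zero _).symm))]
  let y := (f₀.scaleRoots (algebraMap A R b)).eval (algebraMap A R a)
  have hy : IsNilpotent y := isNilpotent_of_forall_mem fun p => by
    let j := (algebraMap (R ⧸ p.1) (BF R p)).comp (Ideal.Quotient.mk p.1)
    have hj : j y = 0 := by
      show j ((f₀.scaleRoots (algebraMap A R b)).eval (algebraMap A R a)) = 0
      rw [← Polynomial.eval₂_at_apply, show j (algebraMap A R a) = j (algebraMap A R b) * branch p x by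
        simp only [j, RingHom.comp_apply]
        rw [← branch_algebraMap, ← branch_algebraMap, ← map_mul, hbx], Polynomial.scaleRoots_eval₂_mul]
      have h0 : Polynomial.eval₂ j (branch p x) f₀ = 0 := by
        rw [show f₀ = q p * ∏ r ∈ Finset.univ.erase p, q r from (Finset.mul_prod_erase _ _ (Finset.mem_univ p)).symm,
          Polynomial.eval₂_mul, show Polynomial.eval₂ j (branch p x) (q p) = 0 by
            rw [← Polynomial.eval₂_map, hq]; exact hfx p, zero_mul]
      rw [h0, mul_zero]
    exact Ideal.Quotient.eq_zero_iff_mem.1 (IsFractionRing.injective (R ⧸ p.1) (BF R p) (hj.trans (map_zero _).symm))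
  obtain ⟨m, hm⟩ := hy
  let g := f₀ ^ m
  have hgm : g.Monic := hf₀.pow m
  have hg0 : (g.scaleRoots (algebraMap A R b)).eval (algebraMap A R a) = 0 := by
    rw [Polynomial.pow_scaleRoots' _ _ _ (by rw [hf₀.leadingCoeff, one_pow]; exact one_ne_zero), Polynomial.eval_pow]
    exact hm
  let N := g.natDegree
  let J : Ideal A := Ideal.span (Set.range fun j : Fin N => a ^ (j : ℕ) * b ^ (N - j))
  have hsum : algebraMap A R (a ^ N) ∈ J.map (algebraMap A R) := by
    rw [Polynomial.eval_eq_sum_range, Polynomial.natDegree_scaleRoots, Finset.sum_range_succ] at hg0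
    have hN : (g.scaleRoots (algebraMap A R b)).coeff N = 1 := by
      rw [Polynomial.coeff_scaleRoots, Nat.sub_self, pow_zero, mul_one]
      exact hgm
    rw [hN, one_mul, ← map_pow] at hg0
    rw [show algebraMap A R (a ^ N) = -∑ i ∈ Finset.range N,
      (g.scaleRoots (algebraMap A R b)).coeff i * algebraMap A R a ^ i from eq_neg_of_add_eq_zero_right hg0]
    refine Submodule.neg_mem _ (Submodule.sum_mem _ fun i hi => ?_)
    rw [Polynomial.coeff_scaleRoots, mul_assoc, ← map_pow, ← map_pow, ← map_mul, mul_comm (b ^ _)]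
    exact Ideal.mul_mem_left _ _ (Ideal.mem_map_of_mem _ (Ideal.subset_span ⟨⟨i, Finset.mem_range.1 hi⟩, rfl⟩))
  have hJ : a ^ N ∈ J := by
    rw [← Ideal.comap_map_eq_self_of_faithfullyFlat (B := R) J]
    exact hsum
  obtain ⟨c, hc⟩ := (Ideal.mem_span_range_iff_exists_fun).1 hJ
  refine ⟨Polynomial.X ^ N - ∑ j : Fin N, Polynomial.C (c j) * Polynomial.X ^ (j : ℕ), ?_, ?_⟩
  · exact Polynomial.monic_X_pow_sub (Polynomial.degree_sum_fin_lt _)
  · rw [← Polynomial.aeval_def, map_sub, map_pow, Polynomial.aeval_X, map_sum, sub_eq_zero]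
    have hbN : algebraMap A (FractionRing A) b ^ N ≠ 0 :=
      pow_ne_zero _ fun h0 => hb0 (IsFractionRing.injective A (FractionRing A) (h0.trans (map_zero _).symm))
    refine mul_left_cancel₀ hbN ?_
    rw [← mul_pow, hbx, ← map_pow, ← hc, map_sum, Finset.mul_sum]
    refine Finset.sum_congr rfl fun j _ => ?_
    rw [map_mul (Polynomial.aeval x), Polynomial.aeval_C, map_pow (Polynomial.aeval x), Polynomial.aeval_X, map_mul,
      map_mul, map_pow, map_pow, ← hbx,
      show algebraMap A (FractionRing A) b ^ N = algebraMap A _ b ^ (j : ℕ) * algebraMap A _ b ^ (N - j) by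
        rw [← pow_add, Nat.add_sub_cancel' j.2.le]]
    ring

theorem finite_ne_one_of_finite_lt_one {ι : Type u} (v : ι → Valuation (FractionRing A) ℤᵐ⁰)
    (hle : ∀ i (e : A), v i (algebraMap A (FractionRing A) e) ≤ 1)
    (hfin : ∀ e : A, e ≠ 0 → {i | v i (algebraMap A (FractionRing A) e) < 1}.Finite) :
    ∀ x : FractionRing A, x ≠ 0 → {i | v i x ≠ 1}.Finite := by
  intro x hx
  obtain ⟨a, b, hb, hxab⟩ := IsFractionRing.div_surjective A x
  have hb0 : b ≠ 0 := nonZeroDivisors.ne_zero hb
  have ha : a ≠ 0 := fun h => hx (by rw [← hxab, h, map_zero, zero_div])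
  refine ((hfin a ha).union (hfin b hb0)).subset fun i hi => ?_
  by_contra hc
  simp only [Set.mem_union, Set.mem_setOf_eq, not_or, not_lt] at hc
  refine hi ?_
  rw [← hxab, map_div₀, le_antisymm (hle i a) hc.1, le_antisymm (hle i b) hc.2, div_one]

variable (A R)

/-- The indices: a branch and a prime of height one meeting the base. -/
abbrev Idx : Type u :=
  Σ p : MP R, {P : Ideal (Br R p) // IsDVRPrime P ∧
    ∃ a : A, a ≠ 0 ∧ ∃ c ∈ P, (c : BF R p) = branch p (algebraMap A (FractionRing A) a)}

variable {A R}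

theorem exists_family (hN : ∀ p : MP R, Module.Finite (R ⧸ p.1) (Br R p)) :
    Nonempty (Family (integralClosure A (FractionRing A)) (FractionRing A) (Idx A R)) := by
  classical
  haveI : ∀ p : MP R, IsFractionRing (Br R p) (BF R p) := fun p =>
    integralClosure.isFractionRing_of_finite_extension (FractionRing (R ⧸ p.1)) _
  haveI : ∀ p : MP R, IsIntegrallyClosed (Br R p) := fun p =>
    integralClosure.isIntegrallyClosedOfFiniteExtension (FractionRing (R ⧸ p.1))
  haveI : ∀ p : MP R, IsNoetherianRing (Br R p) := fun p => by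
    haveI := hN p
    exact IsNoetherianRing.of_finite (R ⧸ p.1) _
  choose w hw1 hw2 hw3 using fun (p : MP R) (P : Ideal (Br R p)) (hP : IsDVRPrime P) =>
    exists_valuation (L := BF R p) hP
  have hint : ∀ (p : MP R) (z : integralClosure A (FractionRing A)), IsIntegral (R ⧸ p.1) (branch p z.1) := by
    intro p z
    obtain ⟨g, hg, hgz⟩ := z.2
    refine ⟨g.map ((Ideal.Quotient.mk p.1).comp (algebraMap A R)), hg.map _, ?_⟩
    rw [Polynomial.eval₂_map, show (algebraMap (R ⧸ p.1) (BF R p)).comp ((Ideal.Quotient.mk p.1).comp (algebraMap A R)) =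
      (branch p).comp (algebraMap A (FractionRing A)) from RingHom.ext fun a => (branch_algebraMap p a).symm,
      ← Polynomial.hom_eval₂, hgz, map_zero]
  have himg : ∀ (p : MP R) (a : A), ∃ c : Br R p, (c : BF R p) = branch p (algebraMap A (FractionRing A) a) :=
    fun p a => ⟨⟨_, hint p (algebraMap A _ a)⟩, rfl⟩
  have hmem : ∀ x : FractionRing A, (∀ i : Idx A R, w i.1 i.2.1 i.2.2.1 (branch i.1 x) ≤ 1) →
      ∃ z : integralClosure A (FractionRing A), algebraMap _ (FractionRing A) z = x := by
    intro x hx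
    refine ⟨⟨x, isIntegral_of_forall (R := R) x fun p => ?_⟩, rfl⟩
    by_contra hnot
    obtain ⟨a, b, hb, hxab⟩ := IsFractionRing.div_surjective A x
    have hb0 : b ≠ 0 := nonZeroDivisors.ne_zero hb
    obtain ⟨y, hy⟩ := himg p a
    obtain ⟨c, hc⟩ := himg p b
    have hcb : (c : BF R p) ≠ 0 := fun h => by
      rw [hc, map_eq_zero, IsFractionRing.to_map_eq_zero_iff] at h
      exact hb0 h
    have hxy : branch p x = y / c := by rw [← hxab, map_div₀, hy, hc]
    have hndvd : ¬ c ∣ y := by
      rintro ⟨d, hd⟩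
      apply hnot
      rw [hxy, hd, show ((c * d : Br R p) : BF R p) = c * d from rfl, mul_div_cancel_left₀ _ hcb]
      exact d.2
    obtain ⟨P, hP, hcP, hPmem⟩ := exists_dvrPrime (fun h => hcb (by rw [h]; rfl)) hndvd
    have hle : w p P hP (branch p x) ≤ 1 := hx ⟨p, P, hP, b, hb0, c, hcP, hc⟩
    obtain ⟨d, s, hs, hds⟩ := hw3 p P hP (branch p x) hle
    refine hs (hPmem s d (Subtype.ext ?_))
    have h1 : branch p x * (s : BF R p) = (d : BF R p) := hds
    show (s : BF R p) * y = c * d
    rw [← h1, hxy]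
    field_simp
  have hfin : ∀ e : A, e ≠ 0 → {i : Idx A R | w i.1 i.2.1 i.2.2.1 (branch i.1 (algebraMap A (FractionRing A) e)) < 1}.Finite := by
    intro e he
    choose c hc using fun p => himg p e
    have hc0 : ∀ p, c p ≠ 0 := fun p h => by
      have h1 := hc p
      rw [h, ZeroMemClass.coe_zero, eq_comm, map_eq_zero, IsFractionRing.to_map_eq_zero_iff] at h1
      exact he h1
    refine (Set.finite_iUnion fun p : MP R => (((Ideal.span {c p}).finite_minimalPrimes_of_isNoetherianRing (Br R p)).preimage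
      (Subtype.val_injective.injOn)).image fun P => (⟨p, P⟩ : Idx A R)).subset fun i hi => ?_
    obtain ⟨p, P, hP, hPa⟩ := i
    refine Set.mem_iUnion.2 ⟨p, ⟨P, hP, hPa⟩, ?_, rfl⟩
    have hi' : w p P hP (branch p (algebraMap A (FractionRing A) e)) < 1 := hi
    rw [← hc p] at hi'
    have hcP : c p ∈ P := (hw2 p P hP (c p)).1 hi'
    refine ⟨⟨hP.1, (Ideal.span_singleton_le_iff_mem _).2 hcP⟩, fun r hr hle => ?_⟩
    haveI := hr.1
    exact (hP.eq_of_le (fun h => hc0 p (by simpa [h] using hr.2 (Ideal.mem_span_singleton_self _))) hle).ge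
  have hle1 : ∀ (i : Idx A R) (e : A), w i.1 i.2.1 i.2.2.1 (branch i.1 (algebraMap A (FractionRing A) e)) ≤ 1 :=
    fun i e => hw1 i.1 i.2.1 i.2.2.1 ⟨_, hint i.1 (algebraMap A _ e)⟩
  have hfinite := finite_ne_one_of_finite_lt_one (A := A) (ι := Idx A R)
    (fun i => (w i.1 i.2.1 i.2.2.1).comap (branch i.1)) hle1 hfin
  have hnt : ∀ i : Idx A R, ∃ z : integralClosure A (FractionRing A),
      algebraMap _ (FractionRing A) z ≠ 0 ∧ w i.1 i.2.1 i.2.2.1 (branch i.1 (algebraMap _ (FractionRing A) z)) < 1 := by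
    rintro ⟨q, P, hP, a, ha, c, hc, hca⟩
    refine ⟨algebraMap A _ a, ?_, ?_⟩
    · show algebraMap A (FractionRing A) a ≠ 0
      rw [ne_eq, IsFractionRing.to_map_eq_zero_iff]
      exact ha
    · show w q P hP (branch q (algebraMap A (FractionRing A) a)) < 1
      rw [← hca]
      exact (hw2 q P hP c).2 hc

  exact ⟨{ v := fun i => (w i.1 i.2.1 i.2.2.1).comap (branch i.1)
           le_one := fun i z => hw1 i.1 i.2.1 i.2.2.1 ⟨_, hint i.1 z⟩
           mem_of_le := hmem, finite := hfinite, nontriv := hnt }⟩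

end Groth.Agent.MoriLib
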