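import Mathlib
import Groth.Agent.MoriLib.Comp

/-!
# Finitely many elements separating the height one primes of the integral closure over the base
-/

set_option autoImplicit false
set_option linter.unusedSectionVars false
set_option maxHeartbeats 1000000
universe u

open scoped TensorProduct

noncomputable section

namespace Groth.Agent.MoriLib

variable {A R : Type u} [CommRing A] [IsDomain A] [CommRing R] [IsNoetherianRing R] [Algebra A R]
  [Module.FaithfullyFlat A R]

variable (A) in
/-- Two primes over the same prime lead to a common field. -/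
theorem exists_field {B : Type u} [CommRing B] [Algebra A B] (Q : Ideal B) [Q.IsPrime] (P : Ideal R) [P.IsPrime]
    (h : Q.comap (algebraMap A B) = P.comap (algebraMap A R)) :
    ∃ (L : Type u) (_ : Field L) (_ : Algebra A L) (f : B →ₐ[A] L) (g : R →ₐ[A] L),
      RingHom.ker f = Q ∧ RingHom.ker g = P := by
  let q := Q.comap (algebraMap A B)
  let iQ := Ideal.ResidueField.map q Q (algebraMap A B) rfl
  let iP := Ideal.ResidueField.map q P (algebraMap A R) h
  letI := iQ.toAlgebra
  letI := iP.toAlgebra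
  obtain ⟨M, hM⟩ := Ideal.exists_maximal (Q.ResidueField ⊗[q.ResidueField] P.ResidueField)
  haveI := hM
  let L := (Q.ResidueField ⊗[q.ResidueField] P.ResidueField) ⧸ M
  letI : Field L := Ideal.Quotient.field M
  let fQ : Q.ResidueField →+* L := (Ideal.Quotient.mk M).comp Algebra.TensorProduct.includeLeftRingHom
  let fP : P.ResidueField →+* L := (Ideal.Quotient.mk M).comp
    (Algebra.TensorProduct.includeRight : P.ResidueField →ₐ[q.ResidueField] _).toRingHom
  letI : Algebra A L := (fQ.comp ((algebraMap B Q.ResidueField).comp (algebraMap A B))).toAlgebra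
  let f : B →ₐ[A] L := { fQ.comp (algebraMap B Q.ResidueField) with commutes' := fun _ => rfl }
  let g : R →ₐ[A] L :=
    { fP.comp (algebraMap R P.ResidueField) with
      commutes' := fun a => by
        show fP (algebraMap R P.ResidueField (algebraMap A R a)) = fQ (algebraMap B Q.ResidueField (algebraMap A B a))
        rw [← Ideal.ResidueField.map_algebraMap q P (algebraMap A R) h, ← Ideal.ResidueField.map_algebraMap q Q (algebraMap A B) rfl]
        refine congrArg (Ideal.Quotient.mk M) ?_
        exact ((Algebra.TensorProduct.includeRight : P.ResidueField →ₐ[q.ResidueField]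
          Q.ResidueField ⊗[q.ResidueField] P.ResidueField).commutes (algebraMap A q.ResidueField a)).trans
          ((Algebra.TensorProduct.includeLeft : Q.ResidueField →ₐ[q.ResidueField]
            Q.ResidueField ⊗[q.ResidueField] P.ResidueField).commutes (algebraMap A q.ResidueField a)).symm }
  refine ⟨L, inferInstance, inferInstance, f, g, Ideal.ext fun x => ?_, Ideal.ext fun x => ?_⟩
  · show fQ (algebraMap B Q.ResidueField x) = 0 ↔ x ∈ Q
    rw [map_eq_zero, Ideal.algebraMap_residueField_eq_zero]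
  · show fP (algebraMap R P.ResidueField x) = 0 ↔ x ∈ P
    rw [map_eq_zero, Ideal.algebraMap_residueField_eq_zero]

theorem exists_separating (hN : ∀ p : MP R, Module.Finite (R ⧸ p.1) (Br R p)) :
    ∃ S : Finset (integralClosure A (FractionRing A)),
      ∀ Q Q' : Ideal (integralClosure A (FractionRing A)), Family.HtOne Q → Q'.IsPrime →
        Q.comap (algebraMap A _) = Q'.comap (algebraMap A _) → (∀ s ∈ S, s ∈ Q ↔ s ∈ Q') → Q = Q' := by
  classical
  let B := integralClosure A (FractionRing A)
  haveI : ∀ p : MP R, Module.Finite R (Br R p) := fun p => by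
    haveI := hN p
    exact Module.Finite.trans (R ⧸ p.1) _
  have hint : ∀ (p : MP R) (z : B), IsIntegral (R ⧸ p.1) (branch p z.1) := by
    intro p z
    obtain ⟨g, hg, hgz⟩ := z.2
    refine ⟨g.map ((Ideal.Quotient.mk p.1).comp (algebraMap A R)), hg.map _, ?_⟩
    rw [Polynomial.eval₂_map, show (algebraMap (R ⧸ p.1) (BF R p)).comp ((Ideal.Quotient.mk p.1).comp (algebraMap A R)) =
      (branch p).comp (algebraMap A (FractionRing A)) from RingHom.ext fun a => (branch_algebraMap p a).symm,
      ← Polynomial.hom_eval₂, hgz, map_zero]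
  let φ : B →ₐ[A] (Π p : MP R, Br R p) :=
    { toFun := fun z p => ⟨branch p z.1, hint p z⟩
      map_one' := funext fun p => Subtype.ext (map_one (branch p))
      map_mul' := fun x y => funext fun p => Subtype.ext (map_mul (branch p) _ _)
      map_zero' := funext fun p => Subtype.ext (map_zero (branch p))
      map_add' := fun x y => funext fun p => Subtype.ext (map_add (branch p) _ _)
      commutes' := fun a => funext fun p => Subtype.ext (branch_algebraMap p a) }
  let f : R ⊗[A] B →ₐ[R] (Π p : MP R, Br R p) :=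
    Algebra.TensorProduct.lift (Algebra.ofId R _) φ fun _ _ => Commute.all _ _
  have hf : ∀ (r : R) (z : B), f (r ⊗ₜ[A] z) = algebraMap R _ r * φ z := fun r z => Algebra.TensorProduct.lift_tmul ..
  have hden : ∀ z : R ⊗[A] B, ∃ b : A, b ≠ 0 ∧ ∃ r : R, b • z = r ⊗ₜ[A] (1 : B) := by
    intro z
    induction z using TensorProduct.induction_on with
    | zero => exact ⟨1, one_ne_zero, 0, by rw [smul_zero, TensorProduct.zero_tmul]⟩
    | tmul r x =>
      obtain ⟨a, b, hb, hx⟩ := IsFractionRing.div_surjective A x.1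
      refine ⟨b, nonZeroDivisors.ne_zero hb, a • r, ?_⟩
      have h1 : b • x = a • (1 : B) := Subtype.ext (by
        show b • x.1 = a • (1 : FractionRing A)
        rw [Algebra.smul_def, Algebra.smul_def, mul_one, ← hx, mul_div_cancel₀]
        exact fun h0 => nonZeroDivisors.ne_zero hb (IsFractionRing.injective A (FractionRing A) (h0.trans (map_zero _).symm)))
      rw [← TensorProduct.tmul_smul, h1, TensorProduct.tmul_smul, TensorProduct.smul_tmul']
    | add x y hx hy =>
      obtain ⟨b, hb, r, hr⟩ := hx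
      obtain ⟨c, hc, s, hs⟩ := hy
      refine ⟨b * c, mul_ne_zero hb hc, c • r + b • s, ?_⟩
      rw [smul_add, mul_comm, mul_smul, hr, mul_comm, mul_smul, hs, TensorProduct.add_tmul, TensorProduct.smul_tmul',
        TensorProduct.smul_tmul']
  have hker : ∀ z, f z = 0 → IsNilpotent z := by
    intro z hz
    obtain ⟨b, hb, r, hr⟩ := hden z
    have h1 : algebraMap R (Π p : MP R, Br R p) r = 0 := by
      have h2 : f (b • z) = 0 := by rw [← algebraMap_smul R b z, map_smul, hz, smul_zero]
      rwa [hr, hf, map_one, mul_one] at h2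
    obtain ⟨m, hm⟩ := isNilpotent_of_forall_mem (r := r) fun p => by
      have h2 := congrArg Subtype.val (congrFun h1 p)
      exact Ideal.Quotient.eq_zero_iff_mem.1 (IsFractionRing.injective (R ⧸ p.1) (BF R p) (h2.trans (map_zero _).symm))
    refine ⟨m, ?_⟩
    have h3 : b ^ m • z ^ m = 0 := by
      rw [← smul_pow, hr, Algebra.TensorProduct.tmul_pow, hm, TensorProduct.zero_tmul]
    have hinj := Module.Flat.lTensor_preserves_injective_linearMap (M := R) (LinearMap.lsmul A B (b ^ m)) fun x y h => by
      have h4 : b ^ m • (x : FractionRing A) = b ^ m • (y : FractionRing A) := congrArg Subtype.val h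
      rw [Algebra.smul_def, Algebra.smul_def] at h4
      exact Subtype.ext (mul_left_cancel₀ (fun h0 => pow_ne_zero m hb
        (IsFractionRing.injective A (FractionRing A) (h0.trans (map_zero _).symm))) h4)
    refine hinj (Eq.trans ?_ (map_zero _).symm)
    rw [← h3]
    generalize z ^ m = w
    induction w using TensorProduct.induction_on with
    | zero => simp
    | tmul u v => simp [TensorProduct.tmul_smul]
    | add u v hu hv => rw [map_add, smul_add, hu, hv]
  let T := f.range
  let fr : R ⊗[A] B →ₐ[R] T := f.rangeRestrict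
  have hfr : Function.Surjective fr := AlgHom.rangeRestrict_surjective f
  haveI : Module.Finite R T := Module.Finite.of_fg (IsNoetherian.noetherian T.toSubmodule)
  haveI : IsNoetherianRing T := IsNoetherianRing.of_finite R T
  haveI : Algebra.IsIntegral R T := Algebra.IsIntegral.of_finite R T
  let ιB : B →+* T := fr.toRingHom.comp (Algebra.TensorProduct.includeRight : B →ₐ[A] R ⊗[A] B).toRingHom
  have hover : ∀ (Q : Ideal B) (P : Ideal R), Q.IsPrime → P.IsPrime →
      Q.comap (algebraMap A B) = P.comap (algebraMap A R) →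
      ∃ X : Ideal T, X.IsPrime ∧ X.comap ιB = Q ∧ X.comap (algebraMap R T) = P := by
    intro Q P hQ hP h
    obtain ⟨L, _, _, fQ, gP, hfQ, hgP⟩ := exists_field A Q P h
    let F : R ⊗[A] B →+* L := (Algebra.TensorProduct.lift gP fQ fun _ _ => Commute.all _ _).toRingHom
    have hle : RingHom.ker fr.toRingHom ≤ RingHom.ker F := fun z hz => by
      have h0 : IsNilpotent (F z) := (hker z (congrArg Subtype.val (RingHom.mem_ker.1 hz))).map F
      exact RingHom.mem_ker.2 h0.eq_zero
    let G : T →+* L := RingHom.liftOfSurjective fr.toRingHom hfr ⟨F, hle⟩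
    have hG : ∀ z, G (fr z) = F z := fun z => RingHom.liftOfRightInverse_comp_apply _ _ _ _ z
    refine ⟨RingHom.ker G, RingHom.ker_isPrime G, ?_, ?_⟩
    · refine Ideal.ext fun z => ?_
      rw [← hfQ, Ideal.mem_comap, RingHom.mem_ker, RingHom.mem_ker]
      show G (fr ((1 : R) ⊗ₜ[A] z)) = 0 ↔ _
      rw [hG]
      show Algebra.TensorProduct.lift gP fQ _ ((1 : R) ⊗ₜ[A] z) = 0 ↔ _
      rw [Algebra.TensorProduct.lift_tmul, map_one, one_mul]
    · refine Ideal.ext fun r => ?_
      rw [← hgP, Ideal.mem_comap, RingHom.mem_ker, RingHom.mem_ker, ← fr.commutes, hG, Algebra.TensorProduct.algebraMap_apply]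
      show Algebra.TensorProduct.lift gP fQ _ (r ⊗ₜ[A] (1 : B)) = 0 ↔ _
      rw [Algebra.TensorProduct.lift_tmul, map_one, mul_one]
  obtain ⟨b, hb, hbT⟩ : ∃ b : A, b ≠ 0 ∧ ∀ t : T, ∃ r : R, algebraMap A T b * t = algebraMap R T r := by
    obtain ⟨s, hs⟩ := Module.Finite.fg_top (R := R) (M := T)
    choose z hz using hfr
    choose c hc0 r hr using fun t : T => hden (z t)
    refine ⟨∏ t ∈ s, c t, Finset.prod_ne_zero_iff.2 fun t _ => hc0 t, fun t => ?_⟩
    have ht : t ∈ Submodule.span R (s : Set T) := hs ▸ Submodule.mem_top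
    induction ht using Submodule.span_induction with
    | mem t ht =>
      have h1 : algebraMap A T (c t) * t = algebraMap R T (r t) := by
        have h0 : c t • t = fr (c t • z t) := by
          rw [← algebraMap_smul R (c t) (z t), map_smul, hz, algebraMap_smul]
        rw [← Algebra.smul_def, h0, hr t]
        exact fr.commutes (r t)
      refine ⟨algebraMap A R (∏ u ∈ s.erase t, c u) * r t, ?_⟩
      rw [← Finset.mul_prod_erase s c ht, map_mul, map_mul (algebraMap R T), ← h1, ← IsScalarTower.algebraMap_apply]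
      ring
    | zero => exact ⟨0, by rw [mul_zero, map_zero]⟩
    | add x y _ _ hx hy =>
      obtain ⟨p, hp⟩ := hx; obtain ⟨p', hp'⟩ := hy
      exact ⟨p + p', by rw [mul_add, hp, hp', map_add]⟩
    | smul r' x _ hx =>
      obtain ⟨p, hp⟩ := hx
      exact ⟨r' * p, by rw [map_mul, ← hp, Algebra.smul_def]; ring⟩
  have hιA : ∀ a : A, ιB (algebraMap A B a) = algebraMap A T a := fun a => by
    show fr (Algebra.TensorProduct.includeRight (algebraMap A B a)) = _
    rw [AlgHom.commutes, IsScalarTower.algebraMap_apply A R (R ⊗[A] B), AlgHom.commutes, ← IsScalarTower.algebraMap_apply]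
  have hfibre : ∀ q : Ideal A, q.IsPrime → {Q : Ideal B | Q.IsPrime ∧ Q.comap (algebraMap A B) = q}.Finite := by
    intro q hq
    obtain ⟨⟨P, hP⟩, hPq⟩ := PrimeSpectrum.comap_surjective_of_faithfullyFlat (B := R) (⟨q, hq⟩ : PrimeSpectrum A)
    have hPq' : P.comap (algebraMap A R) = q := congrArg PrimeSpectrum.asIdeal hPq
    refine (((P.map (algebraMap R T)).finite_minimalPrimes_of_isNoetherianRing T).image (Ideal.comap ιB)).subset ?_
    rintro Q ⟨hQ, hQq⟩
    obtain ⟨X, hX, hXQ, hXP⟩ := hover Q P hQ hP (hQq.trans hPq'.symm)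
    refine ⟨X, ⟨⟨hX, Ideal.map_le_iff_le_comap.2 hXP.ge⟩, fun Y hY hYX => ?_⟩, hXQ⟩
    haveI := hY.1
    by_contra hne
    have hlt : Y < X := lt_of_le_not_ge hYX hne
    have h1 := Ideal.IsIntegral.comap_lt_comap (R := R) hlt
    rw [hXP] at h1
    exact h1.not_ge (Ideal.map_le_iff_le_comap.1 hY.2)
  let bad : Set (Ideal B) := ⋃ X ∈ (Ideal.span {algebraMap A T b}).minimalPrimes,
    {Q : Ideal B | Q.IsPrime ∧ Q.comap (algebraMap A B) = (X.comap ιB).comap (algebraMap A B)}
  have hbad : bad.Finite := ((Ideal.span {algebraMap A T b}).finite_minimalPrimes_of_isNoetherianRing T).biUnion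
    fun X hX => hfibre _ (by haveI := hX.1.1; infer_instance)
  have hsep : ∀ Q Q' : Ideal B, Q ≠ Q' → ∃ s : B, ¬ (s ∈ Q ↔ s ∈ Q') := fun Q Q' h => by
    by_contra hc
    push Not at hc
    exact h (Ideal.ext hc)
  choose sep hsep using hsep
  refine ⟨((hbad.toFinset ×ˢ hbad.toFinset).image fun p => if h : p.1 ≠ p.2 then sep p.1 p.2 h else 0), ?_⟩
  intro Q Q' hQ hQ' hcomap hS
  haveI := hQ.1
  by_cases hbQ : algebraMap A B b ∈ Q
  · obtain ⟨⟨P, hP⟩, hPq⟩ := PrimeSpectrum.comap_surjective_of_faithfullyFlat (B := R)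
      (⟨Q.comap (algebraMap A B), inferInstance⟩ : PrimeSpectrum A)
    obtain ⟨X, hX, hXQ, -⟩ := hover Q P hQ.1 hP (congrArg PrimeSpectrum.asIdeal hPq).symm
    have hbX : algebraMap A T b ∈ X := by
      rw [← hιA]
      exact (SetLike.ext_iff.1 hXQ _).2 hbQ
    obtain ⟨X₀, hX₀, hle⟩ := Ideal.exists_minimalPrimes_le ((Ideal.span_singleton_le_iff_mem X).2 hbX)
    haveI := hX₀.1.1
    have hne : X₀.comap ιB ≠ ⊥ := fun h => by
      have h1 : algebraMap A B b ∈ X₀.comap ιB := by
        rw [Ideal.mem_comap, hιA]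
        exact hX₀.1.2 (Ideal.mem_span_singleton_self _)
      rw [h, Ideal.mem_bot] at h1
      exact hb (FaithfulSMul.algebraMap_injective A B (h1.trans (map_zero _).symm))
    have hX₀Q : X₀.comap ιB = Q := hQ.2.2 _ inferInstance hne (hXQ ▸ Ideal.comap_mono hle)
    have hQb : Q ∈ bad := Set.mem_biUnion hX₀ ⟨hQ.1, by rw [hX₀Q]⟩
    have hQ'b : Q' ∈ bad := Set.mem_biUnion hX₀ ⟨hQ', by rw [hX₀Q, hcomap]⟩
    by_contra hne'
    refine hsep Q Q' hne' (hS _ (Finset.mem_image.2 ⟨(Q, Q'),
      Finset.mem_product.2 ⟨hbad.mem_toFinset.2 hQb, hbad.mem_toFinset.2 hQ'b⟩, by rw [dif_pos hne']⟩))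
  · obtain ⟨⟨P, hP⟩, hPq⟩ := PrimeSpectrum.comap_surjective_of_faithfullyFlat (B := R)
      (⟨Q.comap (algebraMap A B), inferInstance⟩ : PrimeSpectrum A)
    have hPq' : P.comap (algebraMap A R) = Q.comap (algebraMap A B) := congrArg PrimeSpectrum.asIdeal hPq
    obtain ⟨X, hX, hXQ, hXP⟩ := hover Q P hQ.1 hP hPq'.symm
    obtain ⟨X', hX', hXQ', hXP'⟩ := hover Q' P hQ' hP (hcomap.symm.trans hPq'.symm)
    have hbX : algebraMap A T b ∉ X := fun h => hbQ (by rw [← hXQ, Ideal.mem_comap, hιA]; exact h)
    have hbX' : algebraMap A T b ∉ X' := fun h => hbQ (by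
      have h1 : b ∈ Q'.comap (algebraMap A B) := by
        show algebraMap A B b ∈ Q'
        rw [← hXQ', Ideal.mem_comap, hιA]; exact h
      rwa [← hcomap] at h1)
    have hXX : X = X' := Ideal.ext fun t => by
      obtain ⟨r, hr⟩ := hbT t
      calc t ∈ X ↔ algebraMap A T b * t ∈ X :=
            ⟨X.mul_mem_left _, fun h => (hX.mem_or_mem h).resolve_left hbX⟩
        _ ↔ r ∈ P := by rw [hr, ← hXP]; rfl
        _ ↔ algebraMap A T b * t ∈ X' := by rw [hr, ← hXP']; rfl
        _ ↔ t ∈ X' := ⟨fun h => (hX'.mem_or_mem h).resolve_left hbX', X'.mul_mem_left _⟩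
    rw [← hXQ, ← hXQ', hXX]

end Groth.Agent.MoriLib
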