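import Mathlib
import Groth.Agent.MoriLib.Sep
import Groth.Agent.FiniteCompleteLib.Basic

/-!
# The Mori–Nagata theorem for a Noetherian local domain
-/

set_option autoImplicit false
set_option linter.unusedSectionVars false
set_option maxHeartbeats 1000000
universe u

open scoped TensorProduct

noncomputable section

namespace Groth.Agent.MoriLib

theorem htOne_of_height {C : Type u} [CommRing C] [IsDomain C] {p : Ideal C} [p.IsPrime] (h : p.height = 1) :
    Family.HtOne p := by
  refine ⟨inferInstance, Ideal.ne_bot_of_height_eq_one h, fun r hr hr0 hle => ?_⟩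
  haveI := hr
  by_contra hne
  haveI : p.FiniteHeight := ⟨Or.inr (by rw [h]; exact ENat.one_ne_top)⟩
  haveI : r.FiniteHeight := Ideal.finiteHeight_of_le hle ‹p.IsPrime›.ne_top
  have h1 := Ideal.height_strict_mono_of_isPrime_of_isPrime (lt_of_le_of_ne hle hne)
  have h2 := Ideal.height_strict_mono_of_isPrime_of_isPrime (I := (⊥ : Ideal C)) (J := r) (bot_lt_iff_ne_bot.2 hr0)
  rw [h, ENat.lt_one_iff_eq_zero] at h1
  rw [h1] at h2
  exact not_lt_zero h2

theorem height_of_htOne {C : Type u} [CommRing C] [IsDomain C] [IsNoetherianRing C] {p : Ideal C}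
    (h : Family.HtOne p) : p.height = 1 := by
  haveI := h.1
  obtain ⟨c, hc, hc0⟩ := Submodule.exists_mem_ne_zero_of_ne_bot h.2.1
  have hmin : p ∈ (Ideal.span {c}).minimalPrimes :=
    ⟨⟨h.1, (Ideal.span_singleton_le_iff_mem _).2 hc⟩, fun r hr hle => (h.2.2 r hr.1
      (fun h0 => hc0 (by simpa [h0] using hr.2 (Ideal.mem_span_singleton_self c))) hle).ge⟩
  refine le_antisymm (Ideal.height_le_one_of_isPrincipal_of_mem_minimalPrimes _ p hmin) ?_
  calc (1 : ℕ∞) = (Ideal.span {c}).height :=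
        (Ideal.height_span_singleton_eq_one_of_mem_nonZeroDivisors (mem_nonZeroDivisors_of_ne_zero hc0)
          (fun hu => h.1.ne_top (Ideal.eq_top_of_isUnit_mem _ hc hu))).symm
    _ ≤ p.height := Ideal.height_mono hmin.1.2

theorem mori_nagata {A : Type u} [CommRing A] [IsDomain A] [IsNoetherianRing A] [IsLocalRing A] :
    ∃ C : Subalgebra A (FractionRing A), Module.Finite A C ∧
      (∀ (p : Ideal C) [p.IsPrime], p.height = 1 →
        ∃ V : ValuationSubring (FractionRing A), IsDiscreteValuationRing V ∧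
          ∀ x : FractionRing A, x ∈ V ↔ ∃ s : C, s ∉ p ∧ IsIntegral C ((s : FractionRing A) * x)) ∧
      (∀ x : FractionRing A, x ∈ integralClosure A (FractionRing A) ↔
        ∀ (p : Ideal C) [p.IsPrime], p.height = 1 → ∃ s : C, s ∉ p ∧ IsIntegral C ((s : FractionRing A) * x)) ∧
      (∀ x : FractionRing A, {p : Ideal C | p.IsPrime ∧ p.height = 1 ∧
        ¬ ∃ s : C, s ∉ p ∧ IsIntegral C ((s : FractionRing A) * x)}.Finite) := by
  classical
  let 𝔪 := IsLocalRing.maximalIdeal A
  let R := AdicCompletion 𝔪 A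
  have hm : 𝔪 ≠ ⊤ := (IsLocalRing.maximalIdeal.isMaximal A).ne_top
  haveI : IsLocalRing R := RegLocal.isLocalRing_completion A 𝔪 hm
  haveI : Module.FaithfullyFlat A R := RegLocal.faithfullyFlat_completion A 𝔪 hm
  haveI : IsAdicComplete (IsLocalRing.maximalIdeal R) R := by
    rw [RegLocal.maximalIdeal_completion A 𝔪 hm]
    exact AdicCompletion.isAdicComplete_self 𝔪 𝔪.fg_of_isNoetherianRing
  have hN : ∀ p : MP R, Module.Finite (R ⧸ p.1) (Br R p) := fun p => by
    haveI : IsLocalRing (R ⧸ p.1) := IsLocalRing.of_surjective' (Ideal.Quotient.mk p.1) Ideal.Quotient.mk_surjective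
    haveI : IsAdicComplete (IsLocalRing.maximalIdeal (R ⧸ p.1)) (R ⧸ p.1) := by
      have hc : (IsLocalRing.maximalIdeal (R ⧸ p.1)).comap (Ideal.Quotient.mk p.1) = IsLocalRing.maximalIdeal R :=
        IsLocalRing.eq_maximalIdeal (Ideal.comap_isMaximal_of_surjective _ Ideal.Quotient.mk_surjective)
      have hmap : IsLocalRing.maximalIdeal (R ⧸ p.1) =
          (IsLocalRing.maximalIdeal R).map (algebraMap R (R ⧸ p.1)) := by
        rw [← hc, Ideal.Quotient.algebraMap_eq, Ideal.map_comap_of_surjective _ Ideal.Quotient.mk_surjective]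
      rw [hmap, IsAdicComplete.map_algebraMap_iff (R := R) (S := R ⧸ p.1) (IsLocalRing.maximalIdeal R) (R ⧸ p.1)]
      exact FiniteCompleteLib.isAdicComplete_of_finite _ _
    exact N2Lib.finite_of_isN2 (NagataCompleteLib.isN2_complete (R ⧸ p.1)) (FractionRing (R ⧸ p.1)) (FractionRing (R ⧸ p.1))
  let K := FractionRing A
  let B := integralClosure A K
  obtain ⟨F⟩ := exists_family (A := A) (R := R) hN
  obtain ⟨S, hS⟩ := exists_separating (A := A) (R := R) hN
  let G : Set K := (S.image fun z : B => (z : K) : Finset K)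
  have hG : ∀ x ∈ G, IsIntegral A x := fun x hx => by
    obtain ⟨z, -, rfl⟩ := Finset.mem_image.1 (Finset.mem_coe.1 hx)
    exact z.2
  let C : Subalgebra A K := Algebra.adjoin A G
  have hCB : C ≤ B := Algebra.adjoin_le hG
  haveI hCfin : Module.Finite A C :=
    Module.Finite.of_fg (fg_adjoin_of_finite (Finset.finite_toSet _) hG)
  haveI : IsNoetherianRing C := IsNoetherianRing.of_finite A C
  let φ : C →+* B := (Subalgebra.inclusion hCB).toRingHom
  have hφinj : Function.Injective φ := Subalgebra.inclusion_injective hCB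
  letI : Algebra C B := φ.toAlgebra
  haveI : IsScalarTower A C B := IsScalarTower.of_algebraMap_eq fun _ => rfl
  haveI : Algebra.IsIntegral A B := inferInstance
  haveI : Algebra.IsIntegral C B := Algebra.IsIntegral.tower_top (R := A)
  have hint : ∀ y : K, IsIntegral C y ↔ ∃ z : B, algebraMap B K z = y := fun y =>
    ⟨fun h => ⟨⟨y, isIntegral_trans y h⟩, rfl⟩, fun ⟨z, hz⟩ => hz ▸ (z.2.tower_top : IsIntegral C (z : K))⟩
  have huniq : ∀ (Q Q' : Ideal B), Family.HtOne Q → Q'.IsPrime → Q.comap φ = Q'.comap φ → Q = Q' := by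
    intro Q Q' hQ hQ' h
    refine hS Q Q' hQ hQ' ?_ fun s hs => ?_
    · have h2 := congrArg (Ideal.comap (algebraMap A C)) h
      rwa [Ideal.comap_comap, Ideal.comap_comap] at h2
    · let sC : C := ⟨(s : K), Algebra.subset_adjoin (Finset.mem_coe.2 (Finset.mem_image_of_mem _ hs))⟩
      exact SetLike.ext_iff.1 h sC
  have hdown : ∀ Q : Ideal B, Family.HtOne Q → Family.HtOne (Q.comap φ) := by
    intro Q hQ
    haveI := hQ.1
    refine ⟨inferInstance, Ideal.IsIntegral.comap_ne_bot C hQ.2.1, fun r hr hr0 hle => ?_⟩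
    haveI := hr
    obtain ⟨r', hr'p, hr'⟩ := Ideal.exists_ideal_over_prime_of_isIntegral_of_isDomain (S := B) r
      (((RingHom.injective_iff_ker_eq_bot _).1 hφinj).le.trans bot_le)
    obtain ⟨Q'', hle', hQ''p, hQ''⟩ := Ideal.exists_ideal_over_prime_of_isIntegral_of_isPrime (S := B) (Q.comap φ) r'
      (hr'.trans_le hle)
    have hQQ : Q'' = Q := (huniq Q Q'' hQ hQ''p hQ''.symm).symm
    have hr'Q : r' = Q := hQ.2.2 r' hr'p (fun h0 => hr0 (by
      rw [← hr', h0]; exact Ideal.comap_bot_of_injective _ hφinj)) (hQQ ▸ hle')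
    rw [← hr', hr'Q]
    rfl
  have hup : ∀ p : Ideal C, p.IsPrime → p.height = 1 → ∃ Q : Ideal B, Family.HtOne Q ∧ Q.comap φ = p := by
    intro p hp h1
    have hp1 := htOne_of_height h1
    obtain ⟨Q, hQp, hQ⟩ := Ideal.exists_ideal_over_prime_of_isIntegral_of_isDomain (S := B) p
      (((RingHom.injective_iff_ker_eq_bot _).1 hφinj).le.trans bot_le)
    refine ⟨Q, ⟨hQp, fun h0 => hp1.2.1 (by rw [← hQ, h0]; exact Ideal.comap_bot_of_injective _ hφinj),
      fun r hr hr0 hle => ?_⟩, hQ⟩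
    haveI := hr
    by_contra hne
    have hlt := Ideal.IsIntegral.comap_lt_comap (R := C) (lt_of_le_of_ne hle hne)
    have h2 : r.comap φ = p := hp1.2.2 _ inferInstance (Ideal.IsIntegral.comap_ne_bot C hr0) (by
      rw [← hQ]; exact Ideal.comap_mono hle)
    exact hlt.ne (h2.trans hQ.symm)
  have hmemV : ∀ (p : Ideal C) (Q : Ideal B) (i : Idx A R), p.IsPrime → Family.HtOne Q → Q.comap φ = p →
      F.centre i = Q → ∀ x : K, F.v i x ≤ 1 ↔ ∃ s : C, s ∉ p ∧ IsIntegral C ((s : K) * x) := by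
    intro p Q i hp hQ hQp hi x
    haveI := hp
    refine ⟨fun hx => ?_, fun ⟨s, hs, hsx⟩ => ?_⟩
    · have hall : ∀ j, (F.centre j).comap φ ≤ p → F.v j x ≤ 1 := fun j hj => by
        refine F.le_one_of_centre_eq hQ hi hx j (le_of_eq ?_)
        refine (huniq Q (F.centre j) hQ inferInstance ?_).symm
        rw [hQp]
        exact ((hQp ▸ hdown Q hQ).2.2 _ inferInstance
          (Ideal.IsIntegral.comap_ne_bot C (F.centre_ne_bot j)) hj).symm
      obtain ⟨s, hs, a, ha⟩ := F.exists_clear φ p x hall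
      exact ⟨s, hs, (hint _).2 ⟨a, ha⟩⟩
    · obtain ⟨a, ha⟩ := (hint _).1 hsx
      have h1 : F.v i (s : K) = 1 := F.v_eq_one (a := φ s) (fun h => hs (by rw [← hQp, ← hi]; exact h))
      have h2 := F.le_one i a
      rwa [ha, map_mul, h1, one_mul] at h2
  refine ⟨C, hCfin, fun p hp h1 => ?_, fun x => ⟨fun hx p hp _ => ⟨1, fun h => hp.ne_top ((Ideal.eq_top_iff_one p).2 h), ?_⟩,
    fun hx => ?_⟩, fun x => ?_⟩
  · obtain ⟨Q, hQ, hQp⟩ := hup p hp h1
    haveI := hQ.1
    obtain ⟨i, hi⟩ := F.exists_centre_le Q hQ.2.1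
    have hiQ : F.centre i = Q := hQ.2.2 _ inferInstance (F.centre_ne_bot i) hi
    refine ⟨(F.v i).valuationSubring, ?_, fun x => hmemV p Q i hp hQ hQp hiQ x⟩
    haveI : Nontrivial (MonoidWithZeroHom.valueGroup (.ofClass (F.v i))) := by
      obtain ⟨a, ha0, ha⟩ := F.nontriv i
      have hne : F.v i (algebraMap B K a) ≠ 0 := (F.v i).ne_zero_iff.2 ha0
      refine ⟨⟨Units.mk0 _ hne, MonoidWithZeroHom.mem_valueGroup _ ⟨_, rfl⟩⟩, 1, fun h => ha.ne ?_⟩
      have h2 := congrArg Subtype.val h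
      exact (congrArg Units.val h2).trans Units.val_one
    infer_instance
  · exact (hint _).2 ⟨⟨x, hx⟩, (one_mul x).symm⟩
  · by_contra hnot
    obtain ⟨i, hi, hQ⟩ := F.exists_htOne_gt (x := x) fun ⟨a, ha⟩ => hnot (ha ▸ a.2)
    have h1 := hdown _ hQ
    haveI := h1.1
    obtain ⟨s, hs, hsx⟩ := hx _ (height_of_htOne h1)
    exact hi.not_ge ((hmemV _ _ i inferInstance hQ rfl rfl x).2 ⟨s, hs, hsx⟩)
  · obtain ⟨a, b, hb, rfl⟩ := IsFractionRing.div_surjective A x
    have hbK : algebraMap A K b ≠ 0 := fun h => nonZeroDivisors.ne_zero hb (IsFractionRing.injective A K (h.trans (map_zero _).symm))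
    refine ((Ideal.span {algebraMap A C b}).finite_minimalPrimes_of_isNoetherianRing C).subset ?_
    rintro p ⟨hp, h1, hnot⟩
    have hbp : algebraMap A C b ∈ p := by
      by_contra hbp
      refine hnot ⟨_, hbp, ?_⟩
      show IsIntegral C (algebraMap A K b * (algebraMap A K a / algebraMap A K b))
      rw [mul_div_cancel₀ _ hbK]
      exact (hint _).2 ⟨algebraMap A B a, rfl⟩
    refine ⟨⟨hp, (Ideal.span_singleton_le_iff_mem _).2 hbp⟩, fun r hr hle => ((htOne_of_height h1).2.2 r hr.1 ?_ hle).ge⟩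
    intro h0
    have h2 : algebraMap A C b ∈ r := hr.2 (Ideal.mem_span_singleton_self _)
    rw [h0, Ideal.mem_bot] at h2
    exact hbK (congrArg Subtype.val h2)

end Groth.Agent.MoriLib
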